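import Groth.Agent.Lib.QReg.Basic
import Mathlib.RingTheory.Localization.Away.Basic

/-!
# Weakly regular sequences are of linear type
-/

set_option autoImplicit false

open MvPolynomial

universe u

namespace RelLinear29

open Groth.Agent.QReg

variable {A : Type u} [CommRing A]

theorem relIdeal_le {n : ℕ} (a : Fin n → A) :
    relIdeal a ≤ Ideal.span {q : MvPolynomial (Fin n) A | ∃ i j : Fin n, q = C (a i) * X j - C (a j) * X i} := by
  rintro q ⟨v, hv, rfl⟩
  refine (Submodule.span_le (p := Submodule.comap (dotF a) (Ideal.span _))).2 ?_ hv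
  rintro _ ⟨i, j, rfl⟩
  refine Ideal.subset_span ⟨i, j, ?_⟩
  simp [dotF_apply, Pi.single_apply, sub_mul, Finset.sum_sub_distrib]
  ring

/-- the Rees algebra -/
theorem ker_toRees {n : ℕ} (a : Fin n → A) (ha : RingTheory.Sequence.IsWeaklyRegular A (List.ofFn a)) :
    RingHom.ker (MvPolynomial.aeval (R := A) (fun i : Fin n => Polynomial.C (a i) * (Polynomial.X : Polynomial A))) =
      Ideal.span {q : MvPolynomial (Fin n) A | ∃ i j : Fin n, q = C (a i) * X j - C (a j) * X i} := by
  classical
  refine le_antisymm (fun P hP => ?_) ?_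
  · rw [RingHom.mem_ker] at hP
    rw [← sum_homogeneousComponent P]
    refine Submodule.sum_mem _ fun m _ => relIdeal_le a (mem_relIdeal (isH1Regular_of_isWeaklyRegular a ha)
      (homogeneousComponent_isHomogeneous m P) ?_)
    let ψ : Polynomial A := aeval (fun i : Fin n => Polynomial.C (a i) * (Polynomial.X : Polynomial A)) P
    have hψ : ∀ Q : MvPolynomial (Fin n) A, ∀ m,
        (aeval (fun i : Fin n => Polynomial.C (a i) * (Polynomial.X : Polynomial A)) Q).coeff m =
          eval a (homogeneousComponent m Q) := by
      intro Q m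
      induction Q using MvPolynomial.induction_on' with
      | monomial d c =>
        have hd : (monomial d c : MvPolynomial (Fin n) A).IsHomogeneous d.degree := isHomogeneous_monomial _ rfl
        rw [homogeneousComponent_of_mem hd, aeval_monomial, Polynomial.algebraMap_eq]
        have hprod : (d.prod fun i k => (Polynomial.C (a i) * (Polynomial.X : Polynomial A)) ^ k) =
            Polynomial.C (d.prod fun i k => a i ^ k) * Polynomial.X ^ d.degree := by
          simp only [Finsupp.prod, mul_pow, Finset.prod_mul_distrib, Finset.prod_pow_eq_pow_sum, map_prod, map_pow]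
          rfl
        rw [hprod, ← mul_assoc, ← map_mul, Polynomial.coeff_C_mul, Polynomial.coeff_X_pow]
        split_ifs with h
        · rw [eval_monomial, mul_one]
        · rw [map_zero, mul_zero]
      | add p q hp hq => simp only [map_add, Polynomial.coeff_add, hp, hq]
    rw [← hψ, hP, Polynomial.coeff_zero]
  · refine Ideal.span_le.2 ?_
    rintro _ ⟨i, j, rfl⟩
    rw [SetLike.mem_coe, RingHom.mem_ker]
    simp only [map_sub, map_mul, aeval_C, aeval_X, Polynomial.algebraMap_eq]
    ring

/-- the affine blowup algebra -/
theorem ker_toAffineBlowup {n : ℕ} (a : Fin (n + 1) → A)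
    (ha : RingTheory.Sequence.IsWeaklyRegular A (List.ofFn a)) :
    RingHom.ker (MvPolynomial.aeval (R := A) (S₁ := Localization.Away (a 0))
      (fun i : Fin n => IsLocalization.mk' (Localization.Away (a 0)) (a i.succ)
        (⟨a 0, Submonoid.mem_powers (a 0)⟩ : Submonoid.powers (a 0)))) =
      Ideal.span (Set.range fun i : Fin n => C (a 0) * X i - C (a i.succ)) := by
  classical
  set L := Localization.Away (a 0)
  set b : Fin n → L := fun i => IsLocalization.mk' L (a i.succ)
    (⟨a 0, Submonoid.mem_powers (a 0)⟩ : Submonoid.powers (a 0))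
  have hb : ∀ i, algebraMap A L (a 0) * b i = algebraMap A L (a i.succ) := fun i =>
    IsLocalization.mk'_spec' L (a i.succ) (⟨a 0, Submonoid.mem_powers (a 0)⟩ : Submonoid.powers (a 0))
  set T := Ideal.span (Set.range fun i : Fin n => (C (a 0) * X i - C (a i.succ) : MvPolynomial (Fin n) A))
  refine le_antisymm (fun P hP => ?_) ?_
  · rw [RingHom.mem_ker] at hP
    set d := P.totalDegree
    let H : MvPolynomial (Fin (n + 1)) A :=
      ∑ m ∈ Finset.range (d + 1), X 0 ^ (d - m) * rename Fin.succ (homogeneousComponent m P)
    have hH : H.IsHomogeneous d := IsHomogeneous.sum _ _ _ fun m hm => by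
      have := (((isHomogeneous_X A (0 : Fin (n + 1))).pow (d - m))).mul
        ((homogeneousComponent_isHomogeneous m P).rename_isHomogeneous (f := Fin.succ))
      rw [one_mul, Nat.sub_add_cancel (Nat.lt_succ_iff.1 (Finset.mem_range.1 hm))] at this
      exact this
    have h0 : eval a H = 0 := by
      have h1 : algebraMap A L (eval a H) = algebraMap A L (a 0) ^ d * aeval b P := by
        conv_rhs => rw [← sum_homogeneousComponent P, map_sum, Finset.mul_sum]
        simp only [H, map_sum, map_mul, map_pow, eval_X, eval_rename]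
        refine Finset.sum_congr rfl fun m hm => ?_
        obtain ⟨k, hk⟩ : ∃ k, d = k + m := ⟨d - m, (Nat.sub_add_cancel (Nat.lt_succ_iff.1 (Finset.mem_range.1 hm))).symm⟩
        rw [hk, Nat.add_sub_cancel, pow_add, mul_assoc]
        congr 1
        have hhom := homogeneousComponent_isHomogeneous m P
        generalize homogeneousComponent m P = Q at hhom
        rw [Q.as_sum, map_sum, map_sum, map_sum, Finset.mul_sum]
        refine Finset.sum_congr rfl fun e he => ?_
        have hdeg : ∑ i ∈ e.support, e i = m := by
          have := hhom (mem_support_iff.1 he)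
          simpa [Finsupp.weight_apply, Finsupp.sum] using this
        rw [eval_monomial, aeval_monomial, map_mul, map_finsuppProd, mul_left_comm, Finsupp.prod, Finsupp.prod,
          ← hdeg, ← Finset.prod_pow_eq_pow_sum, ← Finset.prod_mul_distrib]
        congr 1
        refine Finset.prod_congr rfl fun i _ => ?_
        rw [map_pow, Function.comp_apply, ← mul_pow, hb]
      rw [hP, mul_zero] at h1
      obtain ⟨⟨_, k, rfl⟩, hk⟩ := (IsLocalization.map_eq_zero_iff (Submonoid.powers (a 0)) L _).1 h1
      have hreg : IsSMulRegular A (a 0) := by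
        rw [List.ofFn_succ, RingTheory.Sequence.isWeaklyRegular_cons_iff] at ha
        exact ha.1
      exact (hreg.pow k).right_eq_zero_of_smul hk
    let φ : MvPolynomial (Fin (n + 1)) A →ₐ[A] MvPolynomial (Fin n) A := aeval (Fin.cons 1 X)
    have hφs : ∀ Q : MvPolynomial (Fin n) A, φ (rename Fin.succ Q) = Q := fun Q => by
      rw [show φ (rename Fin.succ Q) = aeval (Fin.cons 1 X ∘ Fin.succ) Q from aeval_rename ..]
      simp [Function.comp_def]
    have hφH : φ H = P := by
      conv_rhs => rw [← sum_homogeneousComponent P]
      simp only [H, map_sum, map_mul, map_pow, hφs]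
      refine Finset.sum_congr rfl fun m _ => ?_
      simp [φ]
    rw [← hφH]
    have hmem := relIdeal_le a (mem_relIdeal (isH1Regular_of_isWeaklyRegular a ha) hH h0)
    refine (Ideal.span_le (I := T.comap φ)).2 ?_ hmem
    rintro _ ⟨i, j, rfl⟩
    show φ _ ∈ T
    have he : ∀ l : Fin (n + 1), C (a 0) * φ (X l) - C (a l) ∈ T := fun l => by
      induction l using Fin.cases with
      | zero => simp [φ]
      | succ l => simpa [φ] using Ideal.subset_span (s := Set.range fun i : Fin n =>
          (C (a 0) * X i - C (a i.succ) : MvPolynomial (Fin n) A)) ⟨l, rfl⟩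
    rw [map_sub, map_mul, map_mul, show φ (C (a i)) = C (a i) from aeval_C _ _,
      show φ (C (a j)) = C (a j) from aeval_C _ _,
      show C (a i) * φ (X j) - C (a j) * φ (X i) =
        φ (X i) * (C (a 0) * φ (X j) - C (a j)) - φ (X j) * (C (a 0) * φ (X i) - C (a i)) by ring]
    exact T.sub_mem (T.mul_mem_left _ (he j)) (T.mul_mem_left _ (he i))
  · refine Ideal.span_le.2 ?_
    rintro _ ⟨i, rfl⟩
    rw [SetLike.mem_coe, RingHom.mem_ker, map_sub, map_mul, aeval_C, aeval_C, aeval_X, hb, sub_self]

end RelLinear29
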